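import Mathlib.RingTheory.Etale.StandardEtale
import Mathlib.FieldTheory.IsAlgClosed.AlgebraicClosure
import Mathlib.RingTheory.LocalRing.ResidueField.Ideal
import Mathlib.RingTheory.Spectrum.Prime.RingHom
import Mathlib.RingTheory.Polynomial.Cyclotomic.Roots
import Mathlib.AlgebraicGeometry.Morphisms.Etale
import Mathlib.Data.ZMod.Basic

/-!
# Étale-local roots of separable monic polynomials; idempotents of `μ_n`; cocycles of `ℤ/n`

* `exists_root`: a monic separable polynomial of positive degree over the global functions of a scheme has a root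
  étale-locally.
* `idem`: the idempotents of a ring containing a root of unity of order `n` (everywhere primitive).
* `cocycle_split`: 2-cocycles of `ZMod n` in a trivial module.
-/

set_option autoImplicit false

universe u

open CategoryTheory AlgebraicGeometry Polynomial Opposite

namespace K539.Root

section Ring

/-- The standard étale pair `(f, 1)` for `f` monic separable. -/
noncomputable def pair {A : Type u} [CommRing A] (f : A[X]) (hm : f.Monic) (hs : f.Separable) :
    StandardEtalePair A where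
  f := f
  monic_f := hm
  g := 1
  cond := by
    obtain ⟨a, b, hab⟩ := hs
    refine ⟨b, a, 1, ?_⟩
    rw [one_pow, ← hab]
    ring

theorem exists_etale_root {A : Type u} [CommRing A] (f : A[X]) (hm : f.Monic) (hs : f.Separable)
    (hd : f.natDegree ≠ 0) :
    ∃ (B : Type u) (_ : CommRing B) (_ : Algebra A B), Algebra.Etale A B ∧
      Function.Surjective (PrimeSpectrum.comap (algebraMap A B)) ∧ ∃ b : B, aeval b f = 0 := by
  refine ⟨(pair f hm hs).Ring, inferInstance, inferInstance, inferInstance, ?_, (pair f hm hs).X, ?_⟩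
  · intro p
    let K := AlgebraicClosure p.asIdeal.ResidueField
    letI : Algebra A K := ((algebraMap p.asIdeal.ResidueField K).comp
      (algebraMap A p.asIdeal.ResidueField)).toAlgebra
    have hK : algebraMap A K = (algebraMap p.asIdeal.ResidueField K).comp
      (algebraMap A p.asIdeal.ResidueField) := rfl
    obtain ⟨t, ht⟩ := IsAlgClosed.exists_root (f.map (algebraMap A K)) (by
      rw [degree_eq_natDegree (hm.map _).ne_zero, hm.natDegree_map]
      exact_mod_cast hd)
    have hmap : (pair f hm hs).HasMap t := by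
      refine ⟨?_, ?_⟩
      · change aeval t f = 0
        rw [aeval_def, ← eval_map]
        exact ht
      · simp [pair]
    let φ := (pair f hm hs).lift t hmap
    refine ⟨⟨RingHom.ker (φ : (pair f hm hs).Ring →+* K), RingHom.ker_isPrime _⟩, ?_⟩
    ext x
    simp only [PrimeSpectrum.comap_asIdeal, Ideal.mem_comap, RingHom.mem_ker, RingHom.coe_coe, AlgHom.commutes]
    rw [hK, RingHom.comp_apply, map_eq_zero_iff _ (algebraMap p.asIdeal.ResidueField K).injective,
      Ideal.algebraMap_residueField_eq_zero]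
  · exact (StandardEtalePair.hasMap_X (P := pair f hm hs)).1

end Ring

section Sch

/-- A monic separable polynomial over the global functions has a root étale-locally. -/
theorem exists_root (U : Scheme.{u}) (f : (Γ(U, ⊤))[X]) (hm : f.Monic) (hs : f.Separable) (hd : f.natDegree ≠ 0)
    (t : U) : ∃ (Y : Scheme.{u}) (g : Y ⟶ U), Etale g ∧ t ∈ Set.range g ∧
      ∃ b : Γ(Y, ⊤), f.eval₂ g.appTop.hom b = 0 := by
  obtain ⟨R, j, hj, t', ht'⟩ : ∃ (R : CommRingCat.{u}) (j : Spec R ⟶ U), IsOpenImmersion j ∧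
      ∃ t' : Spec R, j t' = t := by
    obtain ⟨i, t', ht'⟩ := U.affineCover.exists_eq t
    exact ⟨_, U.affineCover.f i, U.affineCover.map_prop i, t', ht'⟩
  rcases subsingleton_or_nontrivial R with hR | hR
  · exact ((show PrimeSpectrum R from t').isPrime.ne_top (Subsingleton.elim _ _)).elim
  let ψ : Γ(U, ⊤) →+* R := (Scheme.ΓSpecIso R).hom.hom.comp j.appTop.hom
  obtain ⟨B, _, _, het, hsurj, b, hb⟩ := exists_etale_root (f.map ψ) (hm.map ψ) hs.map (by
    rwa [hm.natDegree_map])
  let φ : R ⟶ CommRingCat.of B := CommRingCat.ofHom (algebraMap R B)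
  obtain ⟨y, hy⟩ := hsurj t'
  have : Etale (Spec.map φ) := by
    rw [HasRingHomProperty.Spec_iff (P := @Etale)]
    exact RingHom.etale_algebraMap.2 het
  refine ⟨Spec (CommRingCat.of B), Spec.map φ ≫ j, inferInstance, ⟨y, ?_⟩,
    (Scheme.ΓSpecIso (CommRingCat.of B)).inv.hom b, ?_⟩
  · rw [Scheme.Hom.comp_apply, ← ht']
    congr 1
  · have h1 : (Spec.map φ ≫ j).appTop.hom = ((Scheme.ΓSpecIso (CommRingCat.of B)).inv.hom.comp φ.hom).comp ψ := by
      ext x
      have e1 := ConcreteCategory.congr_hom (Scheme.ΓSpecIso_inv_naturality φ) (ψ x)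
      have e2 : (Scheme.ΓSpecIso R).inv.hom (ψ x) = j.appTop.hom x := by
        change (Scheme.ΓSpecIso R).inv.hom ((Scheme.ΓSpecIso R).hom.hom (j.appTop.hom x)) = _
        exact ConcreteCategory.congr_hom (Scheme.ΓSpecIso R).hom_inv_id _
      rw [Scheme.Hom.comp_appTop]
      change (Spec.map φ).appTop.hom (j.appTop.hom x) = _
      rw [← e2]
      exact e1.symm
    have h2 : (f.map ψ).eval₂ φ.hom b = 0 := hb
    rw [h1, ← eval₂_map, ← eval₂_map]
    rw [← eval_map] at h2
    have h3 := congrArg (Scheme.ΓSpecIso (CommRingCat.of B)).inv.hom h2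
    rw [map_zero, eval_map, hom_eval₂] at h3
    rw [eval₂_map]
    exact h3

theorem separable_cyclotomic (A : Type u) [CommRing A] (n : ℕ) (hn : IsUnit (n : A)) :
    (cyclotomic n A).Separable := by
  have h1 : (X ^ n - C ((1 : Aˣ) : A)).Separable := separable_X_pow_sub_C_unit 1 hn
  rw [Units.val_one, C_1] at h1
  exact h1.of_dvd (cyclotomic.dvd_X_pow_sub_one n A)

theorem nontrivial_of_point (U : Scheme.{u}) (t : U) : Nontrivial Γ(U, ⊤) :=
  (U.presheaf.germ ⊤ t trivial).hom.domain_nontrivial

/-- Étale-local everywhere primitive roots of unity. -/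
theorem exists_cyc (U : Scheme.{u}) (n : ℕ) (hn0 : n ≠ 0) (hn : IsUnit (n : Γ(U, ⊤))) (t : U) :
    ∃ (Y : Scheme.{u}) (g : Y ⟶ U), Etale g ∧ t ∈ Set.range g ∧ ∃ ζ : Γ(Y, ⊤), ζ ^ n = 1 ∧
      ∀ (L : Type u) [Field L] (φ : Γ(Y, ⊤) →+* L), IsPrimitiveRoot (φ ζ) n := by
  have h0 := nontrivial_of_point U t
  obtain ⟨Y, g, hg, ht, ζ, hζ⟩ := exists_root U (cyclotomic n _) (cyclotomic.monic n _)
    (separable_cyclotomic _ n hn) (by
      rw [natDegree_cyclotomic]
      exact (Nat.totient_pos.2 (Nat.pos_of_ne_zero hn0)).ne') t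
  have h1 : (cyclotomic n Γ(Y, ⊤)).IsRoot ζ := by
    rw [← eval_map, map_cyclotomic] at hζ
    exact hζ
  have hnY : IsUnit (n : Γ(Y, ⊤)) := by
    have := hn.map g.appTop.hom
    rwa [map_natCast] at this
  refine ⟨Y, g, hg, ht, ζ, ?_, fun L _ φ => ?_⟩
  · have h2 : (X ^ n - 1 : (Γ(Y, ⊤))[X]).IsRoot ζ := h1.dvd (cyclotomic.dvd_X_pow_sub_one n _)
    simpa [IsRoot.def, sub_eq_zero] using h2
  · have : NeZero (n : L) := ⟨by
      have h3 := hnY.map φ
      rw [map_natCast] at h3
      exact h3.ne_zero⟩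
    rw [← isRoot_cyclotomic_iff, ← map_cyclotomic n φ]
    exact h1.map

/-- Étale-local `n`-th roots of units, `n` invertible. -/
theorem exists_nth (U : Scheme.{u}) (n : ℕ) (hn0 : n ≠ 0) (hn : IsUnit (n : Γ(U, ⊤))) (v : (Γ(U, ⊤))ˣ) (t : U) :
    ∃ (Y : Scheme.{u}) (g : Y ⟶ U), Etale g ∧ t ∈ Set.range g ∧
      ∃ w : (Γ(Y, ⊤))ˣ, w ^ n = Units.map g.appTop.hom.toMonoidHom v := by
  have h0 := nontrivial_of_point U t
  obtain ⟨Y, g, hg, ht, b, hb⟩ := exists_root U (X ^ n - C (v : Γ(U, ⊤))) (monic_X_pow_sub_C _ hn0)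
    (separable_X_pow_sub_C_unit v hn) (by
      rw [natDegree_X_pow_sub_C]
      exact hn0) t
  have h1 : b ^ n = g.appTop.hom v := by
    simpa [sub_eq_zero] using hb
  have hu : IsUnit b := by
    rw [← isUnit_pow_iff hn0, h1]
    exact v.isUnit.map _
  refine ⟨Y, g, hg, ht, hu.unit, ?_⟩
  ext
  simpa using h1

end Sch

section Idem

variable {B : Type u} [CommRing B] {n : ℕ} (ζ : B)

/-- The candidate idempotents. -/
noncomputable def idem (c : B) (i : ZMod n) (x : B) : B :=
  c * ∑ j ∈ Finset.range n, (ζ ^ (-i).val * x) ^ j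

variable {ζ} (hζ1 : ζ ^ n = 1) (hζ : ∀ (L : Type u) [Field L] (φ : B →+* L), IsPrimitiveRoot (φ ζ) n)

include hζ1 in
theorem pow_val_add [NeZero n] (i j : ZMod n) : ζ ^ i.val * ζ ^ j.val = ζ ^ (i + j).val := by
  rw [← pow_add, ZMod.val_add, ← pow_eq_pow_mod _ hζ1]

include hζ1 hζ in
theorem idem_eval [NeZero n] (c : B) (hc : c * n = 1) (i k : ZMod n) :
    idem ζ c i (ζ ^ k.val) = if i = k then 1 else 0 := by
  rw [idem, pow_val_add hζ1]
  split_ifs with h
  · subst h
    rw [neg_add_cancel, ZMod.val_zero, pow_zero]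
    simp [hc]
  · set m : ZMod n := -i + k with hm
    have hm0 : m ≠ 0 := fun h0 => h (by
      have : k = i := by
        rw [hm] at h0
        exact (neg_add_eq_zero.1 h0).symm
      exact this.symm)
    have hu : IsUnit (ζ ^ m.val - 1) := by
      by_contra hcon
      obtain ⟨M, hM, hmem⟩ := exists_max_ideal_of_mem_nonunits hcon
      letI := Ideal.Quotient.field M
      have h1 := hζ (B ⧸ M) (Ideal.Quotient.mk M)
      have h2 : (Ideal.Quotient.mk M ζ) ^ m.val = 1 := by
        have h3 := Ideal.Quotient.eq_zero_iff_mem.2 hmem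
        rw [map_sub, map_one, map_pow, sub_eq_zero] at h3
        exact h3
      exact h1.pow_ne_one_of_pos_of_lt ((ZMod.val_ne_zero m).2 hm0) (ZMod.val_lt m) h2
    have h4 : (∑ j ∈ Finset.range n, (ζ ^ m.val) ^ j) * (ζ ^ m.val - 1) = 0 := by
      rw [geom_sum_mul, ← pow_mul, mul_comm, pow_mul, hζ1, one_pow, sub_self]
    rw [(hu.mul_left_eq_zero).1 h4, mul_zero]

end Idem

section Cocycle

variable {A : Type*} [AddCommGroup A] {n : ℕ} [NeZero n]

theorem cocycle_split (f : ZMod n → ZMod n → A)
    (hf : ∀ i j k, f j k - f (i + j) k + f i (j + k) - f i j = 0) (w : A) (hw : n • w = ∑ k : ZMod n, f k 1) :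
    ∃ e : ZMod n → A, ∀ i j, e j - e (i + j) + e i = f i j := by
  let e : ZMod n → A := fun i => f 0 0 + i.val • w - ∑ j ∈ Finset.range i.val, f (j : ZMod n) 1
  have hsum : ∑ k : ZMod n, f k 1 = ∑ j ∈ Finset.range n, f (j : ZMod n) 1 := by
    symm
    refine Finset.sum_nbij (fun j => (j : ZMod n)) (fun _ _ => Finset.mem_univ _) ?_ ?_ (fun _ _ => rfl)
    · intro a ha b hb hab
      have ha' : a < n := Finset.mem_range.1 ha
      have hb' : b < n := Finset.mem_range.1 hb
      have := congrArg ZMod.val hab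
      simpa [ZMod.val_natCast, Nat.mod_eq_of_lt ha', Nat.mod_eq_of_lt hb'] using this
    · intro a _
      exact ⟨a.val, by simpa using ZMod.val_lt a, by simp⟩
  have hstep : ∀ i : ZMod n, e (i + 1) = e i + w - f i 1 := by
    intro i
    by_cases hi : i.val + 1 < n
    · have h1 : (i + 1).val = i.val + 1 := by
        have hn2 : 1 < n := by omega
        haveI : Fact (1 < n) := ⟨hn2⟩
        rw [ZMod.val_add, ZMod.val_one, Nat.mod_eq_of_lt hi]
      simp only [e]
      rw [h1, Finset.sum_range_succ, succ_nsmul]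
      simp only [ZMod.natCast_val, ZMod.cast_id', id_eq]
      abel
    · have hi' : i.val + 1 = n := by
        have := ZMod.val_lt i
        omega
      have h2 : i + 1 = 0 := by
        have h3 : ((i.val + 1 : ℕ) : ZMod n) = 0 := by
          rw [hi']
          exact ZMod.natCast_self n
        simpa using h3
      have h4 : i.val • w + w = (∑ j ∈ Finset.range i.val, f (j : ZMod n) 1) + f i 1 := by
        rw [← succ_nsmul, hi', hw, hsum]
        have h6 : ∑ j ∈ Finset.range n, f (j : ZMod n) 1 = ∑ j ∈ Finset.range (i.val + 1), f (j : ZMod n) 1 :=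
          Finset.sum_congr (by rw [hi']) fun _ _ => rfl
        rw [h6, Finset.sum_range_succ]
        simp only [ZMod.natCast_val, ZMod.cast_id', id_eq]
      rw [h2]
      simp only [e, ZMod.val_zero, zero_smul, Finset.range_zero, Finset.sum_empty, add_zero, sub_zero]
      have h5 : f 0 0 + i.val • w - ∑ j ∈ Finset.range i.val, f (j : ZMod n) 1 + w - f i 1 =
        f 0 0 + ((i.val • w + w) - ((∑ j ∈ Finset.range i.val, f (j : ZMod n) 1) + f i 1)) := by abel
      rw [h5, h4, sub_self, add_zero]
  have h0 : ∀ i, f i 0 = f 0 0 := by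
    intro i
    have h := hf i 0 0
    simp only [add_zero] at h
    have h' : f 0 0 - f i 0 = 0 := by
      rw [← h]
      abel
    exact (sub_eq_zero.1 h').symm
  refine ⟨e, ?_⟩
  have key : ∀ (m : ℕ) (i : ZMod n), e (m : ZMod n) - e (i + m) + e i = f i m := by
    intro m
    induction m with
    | zero =>
      intro i
      have : e 0 = f 0 0 := by simp [e]
      rw [Nat.cast_zero, add_zero, this, h0 i]
      abel
    | succ m ih =>
      intro i
      rw [Nat.cast_succ, hstep, ← add_assoc, hstep]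
      have h1 := ih i
      have h2 := hf i m 1
      have h3 : f i (m + 1) = f i m - f m 1 + f (i + m) 1 := by
        rw [← sub_eq_zero, ← h2]
        abel
      rw [h3, ← h1]
      abel
  intro i j
  have := key j.val i
  simpa using this

end Cocycle

end K539.Root
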