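import Groth.Agent.StCoh.K998.Dual
import Groth.Agent.Sga3B.DSPts
import Groth.Agent.Sga4B.MuConstLocal
import Groth.Agent.StCoh.K539.Root

/-!
# 2-cocycles of `μ_n` with values in `G_m`, `n` invertible

`exists_cob`: a 2-cocycle of `D_S(ℤ/n)` with values in `G_m` is étale-locally a coboundary, `n` invertible.
-/

set_option autoImplicit false
set_option linter.unusedSectionVars false
set_option backward.isDefEq.respectTransparency false
set_option backward.isDefEq.respectTransparency.types false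

universe w v₁ u₁ v₂ u₂ u

open CategoryTheory CategoryTheory.Limits Opposite AlgebraicGeometry MonoidalCategory CartesianMonoidalCategory MonObj GrpObj

namespace K539.HTwo

open K998 K998.BGc K998.Dual Groth.Agent.Sga3B Groth.Agent.Sga3B.DSPts K539.Root

variable {S : Scheme.{u}} {n : ℕ}

/-- the group -/
noncomputable abbrev D (S : Scheme.{u}) (n : ℕ) : Over S := Red.DS S (ZMod n)

/-- The function of a point of `μ_n`. -/
noncomputable def el {T : Over S} (x : T ⟶ D S n) : Γ(T.left, ⊤) := dsChar x (Multiplicative.ofAdd 1)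

theorem el_mul {T : Over S} (x y : T ⟶ D S n) : el (x * y) = el x * el y := by
  rw [el, dsChar_mul]
  rfl

theorem el_comp {T T' : Over S} (h : T' ⟶ T) (x : T ⟶ D S n) : el (h ≫ x) = h.left.appTop.hom (el x) := by
  rw [el, dsChar_comp]
  rfl

theorem eq_pow_val [NeZero n] (i : Multiplicative (ZMod n)) :
    i = (Multiplicative.ofAdd (1 : ZMod n)) ^ (Multiplicative.toAdd i).val := by
  rw [← ofAdd_nsmul, nsmul_one, ZMod.natCast_zmod_val]
  rfl

theorem el_inj [NeZero n] {T : Over S} {x y : T ⟶ D S n} (h : el x = el y) : x = y := by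
  rw [← dsEquiv_dsChar x, ← dsEquiv_dsChar y]
  congr 1
  apply MonoidHom.ext
  intro i
  rw [eq_pow_val i, map_pow, map_pow]
  exact congrArg (· ^ _) h

theorem el_pow {T : Over S} (x : T ⟶ D S n) : el x ^ n = 1 := by
  rw [el, ← map_pow, ← ofAdd_nsmul, nsmul_one, ZMod.natCast_self, ofAdd_zero, map_one]

/-- The point of a root of unity. -/
noncomputable def mkpt [NeZero n] {T : Over S} (a : Γ(T.left, ⊤)) (ha : a ^ n = 1) : T ⟶ D S n :=
  dsEquiv T (ZMod n)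
    { toFun := fun i => a ^ (Multiplicative.toAdd i).val
      map_one' := by
        rw [toAdd_one, ZMod.val_zero, pow_zero]
      map_mul' := fun i j => by
        rw [toAdd_mul, pow_val_add ha] }

theorem el_mkpt [NeZero n] {T : Over S} (a : Γ(T.left, ⊤)) (ha : a ^ n = 1) : el (mkpt a ha) = a := by
  rw [el, mkpt, dsChar_dsEquiv]
  change a ^ (1 : ZMod n).val = a
  rw [ZMod.val_one_eq_one_mod, ← pow_eq_pow_mod 1 ha, pow_one]

/-- The value of a section of `G_m`. -/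
def val {T : Over S} (x : U T) : Γ(T.left, ⊤) := ((Additive.toMul x.down : (Γ(T.left, ⊤))ˣ) : Γ(T.left, ⊤))

theorem val_inj {T : Over S} {x y : U T} (h : val x = val y) : x = y := by
  have h1 : (Additive.toMul x.down : (Γ(T.left, ⊤))ˣ) = Additive.toMul y.down := Units.ext h
  exact ULift.ext _ _ h1

theorem val_res {T T' : Over S} (f : T' ⟶ T) (x : U T) : val (res f x) = f.left.appTop.hom (val x) := rfl

theorem val_add {T : Over S} (x y : U T) : val (x + y) = val x * val y := rfl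

theorem val_zero {T : Over S} : val (0 : U T) = 1 := rfl

/-- The section of a unit -/
def ofU {T : Over S} (v : (Γ(T.left, ⊤))ˣ) : U T := ULift.up (Additive.ofMul v)

theorem val_ofU {T : Over S} (v : (Γ(T.left, ⊤))ˣ) : val (ofU v) = v := rfl

/-- Roots of unity on `T`. -/
structure Zt (n : ℕ) (T : Over S) where
  /-- the root of unity -/
  ζ : Γ(T.left, ⊤)
  /-- the inverse of `n` -/
  c : Γ(T.left, ⊤)
  hc : c * n = 1
  h1 : ζ ^ n = 1
  hL : ∀ (L : Type u) [Field L] (φ : Γ(T.left, ⊤) →+* L), IsPrimitiveRoot (φ ζ) n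

namespace Zt

variable {T : Over S} (Z : Zt n T)

/-- restriction -/
def res {T' : Over S} (f : T' ⟶ T) : Zt n T' where
  ζ := f.left.appTop.hom Z.ζ
  c := f.left.appTop.hom Z.c
  hc := by
    have := congrArg f.left.appTop.hom Z.hc
    rwa [map_mul, map_natCast, map_one] at this
  h1 := by rw [← map_pow, Z.h1, map_one]
  hL L _ φ := Z.hL L (φ.comp f.left.appTop.hom)

variable [NeZero n]

/-- The constant points. -/
noncomputable def z (i : ZMod n) : T ⟶ D S n := mkpt (Z.ζ ^ i.val) (by rw [← pow_mul, mul_comm, pow_mul, Z.h1, one_pow])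

theorem el_z (i : ZMod n) : el (Z.z i) = Z.ζ ^ i.val := el_mkpt _ _

theorem z_mul (i j : ZMod n) : Z.z i * Z.z j = Z.z (i + j) := by
  apply el_inj
  rw [el_mul, el_z, el_z, el_z, pow_val_add Z.h1]

theorem comp_z {T' : Over S} (f : T' ⟶ T) (i : ZMod n) : f ≫ Z.z i = (Z.res f).z i := by
  apply el_inj
  rw [el_comp, el_z, el_z, map_pow]
  rfl

/-- Points are locally constant. -/
theorem exists_open {T' : Over S} (t : T' ⟶ T) (x : T' ⟶ D S n) (y : T'.left) :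
    ∃ (V : T'.left.Opens) (k : ZMod n), y ∈ V ∧ ∀ (T'' : Over S) (f : T'' ⟶ T'),
      (∀ s, f.left s ∈ V) → f ≫ x = f ≫ t ≫ Z.z k := by
  have hn : IsUnit (n : Γ(T.left, ⊤)) := IsUnit.of_mul_eq_one_right _ Z.hc
  obtain ⟨V, k, hy, hV⟩ := Groth.Agent.Sga4B.MuConstLocal.exists_open_eq_pow Γ(T.left, ⊤) n (NeZero.ne n) hn Z.ζ
    (IsUnit.of_pow_eq_one Z.h1 (NeZero.ne n)) Z.h1 Z.hL T'.left t.left.appTop.hom (el x) (el_pow x) y
  refine ⟨V, (k : ZMod n), hy, fun T'' f hf => ?_⟩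
  apply el_inj
  rw [el_comp, el_comp, el_comp, el_z, ZMod.val_natCast, ← pow_eq_pow_mod _ Z.h1]
  have hfV : f.left ⁻¹ᵁ V = ⊤ := by
    ext s
    simpa using hf s
  have h2 : ∀ a : Γ(T'.left, ⊤), f.left.appTop.hom a =
      T''.left.presheaf.map (eqToHom hfV.symm).op (f.left.app V (T'.left.presheaf.map (homOfLE (le_top (a := V))).op a)) := by
    intro a
    have e1 := ConcreteCategory.congr_hom (f.left.naturality (homOfLE (le_top (a := V))).op) a
    change _ = T''.left.presheaf.map (eqToHom hfV.symm).op _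
    rw [ConcreteCategory.comp_apply] at e1
    rw [e1, ConcreteCategory.comp_apply, ← ConcreteCategory.comp_apply, ← Functor.map_comp]
    have e2 : ((TopologicalSpace.Opens.map f.left.base).op.map (homOfLE (le_top (a := V))).op) ≫ (eqToHom hfV.symm).op =
      𝟙 (op ⊤) := rfl
    erw [e2]
    exact (ConcreteCategory.congr_hom (T''.left.presheaf.map_id (op ⊤)) (f.left.appTop.hom a)).symm
  rw [h2, h2, hV]

/-- Two functions which agree where the points are constant are equal. -/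
theorem loc_eq {T' : Over S} (t : T' ⟶ T) (x y : T' ⟶ D S n) (a b : Γ(T'.left, ⊤))
    (h : ∀ (T'' : Over S) (f : T'' ⟶ T') (i j : ZMod n), f ≫ x = f ≫ t ≫ Z.z i → f ≫ y = f ≫ t ≫ Z.z j →
      f.left.appTop.hom a = f.left.appTop.hom b) : a = b := by
  refine TopCat.Presheaf.section_ext T'.left.sheaf ⊤ a b fun s _ => ?_
  obtain ⟨V₁, i, h1, H1⟩ := Z.exists_open t x s
  obtain ⟨V₂, j, h2, H2⟩ := Z.exists_open t y s
  let V : T'.left.Opens := V₁ ⊓ V₂
  let T'' : Over S := Over.mk (V.ι ≫ T'.hom)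
  let f : T'' ⟶ T' := Over.homMk V.ι rfl
  have h3 : f.left.appTop.hom a = f.left.appTop.hom b :=
    h T'' f i j (H1 T'' f fun s => s.2.1) (H2 T'' f fun s => s.2.2)
  have hs : s ∈ V.ι ''ᵁ ⊤ := by
    rw [Scheme.Opens.ι_image_top]
    exact ⟨h1, h2⟩
  have h4 : T'.left.presheaf.map (homOfLE (x := V.ι ''ᵁ ⊤) le_top).op a =
      T'.left.presheaf.map (homOfLE (x := V.ι ''ᵁ ⊤) le_top).op b := by
    have e := V.ι_appTop
    change V.ι.appTop.hom a = V.ι.appTop.hom b at h3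
    rw [e] at h3
    exact h3
  have e1 := TopCat.Presheaf.germ_res_apply T'.left.presheaf (homOfLE (x := V.ι ''ᵁ ⊤) le_top) s hs a
  have e2 := TopCat.Presheaf.germ_res_apply T'.left.presheaf (homOfLE (x := V.ι ''ᵁ ⊤) le_top) s hs b
  change (T'.left.presheaf.germ ⊤ s trivial) a = (T'.left.presheaf.germ ⊤ s trivial) b
  rw [← e1, ← e2, h4]

/-- The candidate value. -/
noncomputable def s (e : ZMod n → U T) (T' : Over S) (t : T' ⟶ T) (x : T' ⟶ D S n) : Γ(T'.left, ⊤) :=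
  ∑ i : ZMod n, val (BGc.res t (e i)) * idem (Z.res t).ζ (Z.res t).c i (el x)

theorem s_z (e : ZMod n → U T) {T' : Over S} (t : T' ⟶ T) (k : ZMod n) : Z.s e T' t (t ≫ Z.z k) = val (BGc.res t (e k)) := by
  rw [s, comp_z, el_z]
  have h1 : ∀ i : ZMod n, idem (Z.res t).ζ (Z.res t).c i ((Z.res t).ζ ^ k.val) = if i = k then 1 else 0 := fun i =>
    idem_eval (Z.res t).h1 (Z.res t).hL _ (Z.res t).hc i k
  simp only [h1, mul_ite, mul_zero, Finset.sum_ite_eq', Finset.mem_univ, if_true]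
  exact mul_one _

theorem s_nat (e : ZMod n → U T) {T' T'' : Over S} (f : T'' ⟶ T') (t : T' ⟶ T) (x : T' ⟶ D S n) :
    f.left.appTop.hom (Z.s e T' t x) = Z.s e T'' (f ≫ t) (f ≫ x) := by
  simp only [s, map_sum, map_mul]
  refine Finset.sum_congr rfl fun i _ => ?_
  have e1 : f.left.appTop.hom (val (BGc.res t (e i))) = val (BGc.res (f ≫ t) (e i)) := by
    rw [← val_res, res_comp]
  have e2 : f.left.appTop.hom (idem (Z.res t).ζ (Z.res t).c i (el x)) =
      idem (Z.res (f ≫ t)).ζ (Z.res (f ≫ t)).c i (el (f ≫ x)) := by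
    simp only [idem, map_mul, map_sum, map_pow, el_comp]
    rfl
  rw [e1, e2]

theorem s_mul_neg (e : ZMod n → U T) {T' : Over S} (t : T' ⟶ T) (x : T' ⟶ D S n) :
    Z.s e T' t x * Z.s (-e) T' t x = 1 := by
  refine Z.loc_eq t x x _ _ fun T'' f i j hi _ => ?_
  rw [map_mul, s_nat, s_nat, hi, ← Category.assoc, s_z, s_z, map_one, ← val_add, Pi.neg_apply, map_neg, add_neg_cancel]
  rfl

/-- The family of a function. -/
noncomputable def E (e : ZMod n → U T) : Fam (D S n) T 1 := fun T' t g =>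
  ofU ⟨Z.s e T' t (g 0), Z.s (-e) T' t (g 0), Z.s_mul_neg e t (g 0), by rw [mul_comm]; exact Z.s_mul_neg e t (g 0)⟩

theorem val_E (e : ZMod n → U T) {T' : Over S} (t : T' ⟶ T) (g : Fin 1 → (T' ⟶ D S n)) :
    val (Z.E e T' t g) = Z.s e T' t (g 0) := rfl

theorem isFam_E (e : ZMod n → U T) : IsFam (Z.E e) := by
  intro T' T'' f t g
  apply val_inj
  rw [val_res, val_E, val_E, s_nat]

theorem E_z (e : ZMod n → U T) {T' : Over S} (t : T' ⟶ T) (g : Fin 1 → (T' ⟶ D S n)) (k : ZMod n)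
    (hg : g 0 = t ≫ Z.z k) : Z.E e T' t g = BGc.res t (e k) := by
  apply val_inj
  rw [val_E, hg, s_z]

theorem comp_one_fn {T' T'' : Over S} (f : T'' ⟶ T') (x : T' ⟶ D S n) :
    (fun i : Fin 1 => f ≫ (fun _ : Fin 1 => x) i) = fun _ => f ≫ x := rfl

theorem dF_E (e : ZMod n → U T) (F : Fam (D S n) T 2) (hF : IsFam F)
    (h : ∀ i j, e j - e (i + j) + e i = F T (𝟙 T) ![Z.z i, Z.z j]) : dF (Z.E e) = F := by
  funext T' t g
  apply val_inj
  refine Z.loc_eq t (g 0) (g 1) _ _ fun T'' f i j hi hj => ?_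
  rw [← val_res, ← val_res, dF_one]
  congr 1
  rw [map_add, map_sub, isFam_E Z e f, isFam_E Z e f, isFam_E Z e f, hF f]
  have e1 : Z.E e T'' (f ≫ t) (fun _ => f ≫ g 1) = BGc.res (f ≫ t) (e j) := by
    apply Z.E_z
    rw [hj, Category.assoc]
  have e2 : Z.E e T'' (f ≫ t) (fun _ => f ≫ (g 0 * g 1)) = BGc.res (f ≫ t) (e (i + j)) := by
    apply Z.E_z
    rw [comp_mul, hi, hj, ← comp_mul, ← comp_mul, z_mul, Category.assoc]
  have e3 : Z.E e T'' (f ≫ t) (fun _ => f ≫ g 0) = BGc.res (f ≫ t) (e i) := by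
    apply Z.E_z
    rw [hi, Category.assoc]
  rw [e1, e2, e3, ← map_sub, ← map_add, h, hF (f ≫ t) (𝟙 T) ![Z.z i, Z.z j], Category.comp_id]
  congr 1
  funext a
  fin_cases a
  · exact ((Category.assoc _ _ _).trans hi.symm)
  · exact ((Category.assoc _ _ _).trans hj.symm)

end Zt

theorem dF_two {G : Over S} [GrpObj G] {T : Over S} (F : Fam G T 2) (T' : Over S) (t : T' ⟶ T) (a b c : T' ⟶ G) :
    dF F T' t ![a, b, c] = F T' t ![b, c] - F T' t ![a * b, c] + F T' t ![a, b * c] - F T' t ![a, b] := by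
  have e0 : (fun i : Fin 2 => (![a, b, c] : Fin 3 → (T' ⟶ G)) i.succ) = ![b, c] := by
    funext i
    fin_cases i <;> rfl
  have e1 : Fin.contractNth (0 : Fin 3) (· * ·) (![a, b, c] : Fin 3 → (T' ⟶ G)) = ![a * b, c] := by
    funext i
    fin_cases i <;> rfl
  have e2 : Fin.contractNth (1 : Fin 3) (· * ·) (![a, b, c] : Fin 3 → (T' ⟶ G)) = ![a, b * c] := by
    funext i
    fin_cases i <;> rfl
  have e3 : Fin.contractNth (2 : Fin 3) (· * ·) (![a, b, c] : Fin 3 → (T' ⟶ G)) = ![a, b] := by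
    funext i
    fin_cases i <;> rfl
  rw [dF, Fin.sum_univ_three, e0, e1, e2, e3]
  have a1 : ((0 : Fin 3) : ℕ) + 1 = 1 := rfl
  have a2 : ((1 : Fin 3) : ℕ) + 1 = 2 := rfl
  have a3 : ((2 : Fin 3) : ℕ) + 1 = 3 := rfl
  rw [a1, a2, a3]
  have b1 : ((-1 : ℤ)) ^ 1 = -1 := by norm_num
  have b2 : ((-1 : ℤ)) ^ 2 = 1 := by norm_num
  have b3 : ((-1 : ℤ)) ^ 3 = -1 := by norm_num
  rw [b1, b2, b3, neg_smul, one_smul, one_smul, neg_smul, one_smul]
  abel

theorem dF_resF {G : Over S} [GrpObj G] {T T' : Over S} (f : T' ⟶ T) {m : ℕ} (F : Fam G T m) :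
    dF (fun T'' t g => F T'' (t ≫ f) g : Fam G T' m) = fun T'' t g => dF F T'' (t ≫ f) g := rfl

/-- 2-cocycles of `μ_n` with values in `G_m` are étale-locally coboundaries. -/
theorem exists_cob (hn0 : n ≠ 0) {T : Over S} (hn : IsUnit (n : Γ(T.left, ⊤))) (F : Fam (D S n) T 2) (hF : IsFam F)
    (hd : dF F = 0) (τ : T.left) : ∃ (T' : Over S) (f : T' ⟶ T), Etale f.left ∧ τ ∈ Set.range f.left ∧
      ∃ E : Fam (D S n) T' 1, IsFam E ∧ dF E = fun T'' t g => F T'' (t ≫ f) g := by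
  have : NeZero n := ⟨hn0⟩
  obtain ⟨Y, g, hg, ⟨τ₁, h1⟩, ζ, hζ1, hζ⟩ := exists_cyc T.left n hn0 hn τ
  let T₁ : Over S := Over.mk (g ≫ T.hom)
  let f₁ : T₁ ⟶ T := Over.homMk g rfl
  have hn1 : IsUnit (n : Γ(T₁.left, ⊤)) := by
    have := hn.map g.appTop.hom
    rwa [map_natCast] at this
  obtain ⟨c, hc⟩ := hn1.exists_left_inv
  let Z : Zt n T₁ := ⟨ζ, c, hc, hζ1, hζ⟩
  let F₁ : Fam (D S n) T₁ 2 := fun T'' t g => F T'' (t ≫ f₁) g
  have hF1 : IsFam F₁ := by
    intro T' T'' f t g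
    refine (hF f (t ≫ f₁) g).trans ?_
    change F T'' (f ≫ t ≫ f₁) _ = F T'' ((f ≫ t) ≫ f₁) _
    rw [Category.assoc]
  have hd1 : ∀ (T' : Over S) (t : T' ⟶ T₁) (a b c : T' ⟶ D S n),
      F₁ T' t ![b, c] - F₁ T' t ![a * b, c] + F₁ T' t ![a, b * c] - F₁ T' t ![a, b] = 0 := by
    intro T' t a b c
    exact (dF_two F₁ T' t a b c).symm.trans (congrFun (congrFun (congrFun hd T') (t ≫ f₁)) ![a, b, c])
  let u : U T₁ := ∑ k : ZMod n, F₁ T₁ (𝟙 T₁) ![Z.z k, Z.z 1]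
  obtain ⟨Y₂, g₂, hg₂, ⟨τ₂, h2⟩, w, hw⟩ := exists_nth T₁.left n hn0 hn1 (Additive.toMul u.down) τ₁
  let T₂ : Over S := Over.mk (g₂ ≫ T₁.hom)
  let f₂ : T₂ ⟶ T₁ := Over.homMk g₂ rfl
  let F₂ : Fam (D S n) T₂ 2 := fun T'' t g => F₁ T'' (t ≫ f₂) g
  have hF2 : IsFam F₂ := by
    intro T' T'' f t g
    refine (hF1 f (t ≫ f₂) g).trans ?_
    change F₁ T'' (f ≫ t ≫ f₂) _ = F₁ T'' ((f ≫ t) ≫ f₂) _
    rw [Category.assoc]
  let Z₂ : Zt n T₂ := Z.res f₂
  let φ : ZMod n → ZMod n → U T₂ := fun i j => F₂ T₂ (𝟙 T₂) ![Z₂.z i, Z₂.z j]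
  have hφ : ∀ i j, φ i j = BGc.res f₂ (F₁ T₁ (𝟙 T₁) ![Z.z i, Z.z j]) := by
    intro i j
    rw [hF1 f₂ (𝟙 T₁)]
    change F₁ T₂ (𝟙 T₂ ≫ f₂) ![Z₂.z i, Z₂.z j] = F₁ T₂ (f₂ ≫ 𝟙 T₁) _
    rw [Category.id_comp, Category.comp_id]
    congr 1
    funext a
    fin_cases a
    · exact (Z.comp_z f₂ i).symm
    · exact (Z.comp_z f₂ j).symm
  obtain ⟨e, he⟩ := cocycle_split φ (fun i j k => by
    have h3 := hd1 T₂ (𝟙 T₂ ≫ f₂) (Z₂.z i) (Z₂.z j) (Z₂.z k)
    rw [Z₂.z_mul, Z₂.z_mul] at h3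
    exact h3) (ofU (T := T₂) w) (by
      have h4 : (n • (ofU (T := T₂) w) : U T₂) = ofU (w ^ n) := rfl
      rw [h4, hw]
      have h5 : (ofU (T := T₂) (Units.map g₂.appTop.hom.toMonoidHom (Additive.toMul u.down)) : U T₂) = BGc.res f₂ u := rfl
      rw [h5]
      simp only [u, map_sum]
      exact Finset.sum_congr rfl fun k _ => (hφ k 1).symm)
  refine ⟨T₂, f₂ ≫ f₁, ?_, ⟨τ₂, ?_⟩, Z₂.E e, Z₂.isFam_E e, ?_⟩
  · change Etale (g₂ ≫ g)
    infer_instance
  · change (g₂ ≫ g) τ₂ = τ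
    rw [Scheme.Hom.comp_apply, h2]
    exact h1
  · rw [Z₂.dF_E e F₂ hF2 he]
    funext T'' t g
    change F T'' ((t ≫ f₂) ≫ f₁) g = F T'' (t ≫ f₂ ≫ f₁) g
    rw [Category.assoc]

end K539.HTwo
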