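import Groth.Agent.StCoh.K998.ROne
import Groth.Agent.TateLoc.K810.DualDS
import Groth.Agent.StCoh.K539.HTwo

/-!
# `f_* G_m`, `R¹f_* G_m`, `R²f_* G_m` for `f : Bμ_n → X`, `n` invertible
-/

set_option autoImplicit false
set_option linter.unusedSectionVars false
set_option backward.isDefEq.respectTransparency false
set_option backward.isDefEq.respectTransparency.types false

universe w v₁ u₁ v₂ u₂ u

open CategoryTheory CategoryTheory.Limits Opposite AlgebraicGeometry MonoidalCategory CartesianMonoidalCategory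

namespace K539.Mu

open K998 K998.BGc K998.Dual K998.FG K998.Transfer K998.Shift K998.Coch K998.Gm K998.Glob K998.BGs K998.Quot K998.HOne
  K998.RPush K998.Push K998.Pf K998.ROne

local notation "fp" => Scheme.fppfPrecoverage

variable {S : Scheme.{u}}

section Glob

variable (G : Over S) [GrpObj G] [IsCommMonObj G]

theorem sv_mem [IsFinite G.hom] [Flat G.hom] [LocallyOfFinitePresentation G.hom] (W) :
    sv (xx G) W ∈ topo (isFG_qf (isFG_quot G (AlgSt.trivAction G))) Scheme.fppfTopology.{u} W := by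
  have hX : IsFinite (𝟙_ (Over S)).hom := inferInstanceAs (IsFinite (𝟙 _))
  exact (cov_quot G (AlgSt.trivAction G)).sv_mem (isFG_quot G (AlgSt.trivAction G)) W

/-- the family of a unit -/
noncomputable def ofUnit {T : Over S} (x : U T) : GS (pp G) (gmP (qf (pp G))) T :=
  ⟨fun W t => BGc.res (T' := (pp G).obj W) t x, fun W W' f t => res_comp t ((pp G).map f) x⟩

theorem eq_ofUnit [IsFinite G.hom] [Flat G.hom] [LocallyOfFinitePresentation G.hom] {T : Over S}
    (s : GS (pp G) (gmP (qf (pp G))) T) :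
    ofUnit G (show U T from s.1 (tau Scheme.fppfPrecoverage G T) (𝟙 T)) = s := by
  apply Subtype.ext
  refine eq_of_cover (x₀ := xx G) (isSheaf_gmP (isFG_qf (isFG_quot G (AlgSt.trivAction G)))) (sv_mem G)
    (ofUnit G _).2 s.2 fun W t v => ?_
  have h1 := s.2 (iota v ≫ tmap t) (𝟙 T)
  refine Eq.trans ?_ (h1.trans ?_)
  · change BGc.res t _ = BGc.res (𝟙 _ ≫ t) _
    rw [Category.id_comp]
  · change s.1 W ((𝟙 _ ≫ t) ≫ 𝟙 _) = s.1 W t
    rw [Category.comp_id, Category.id_comp]

/-- Global families are units. -/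
noncomputable def gsEquiv [IsFinite G.hom] [Flat G.hom] [LocallyOfFinitePresentation G.hom] (T : Over S) :
    ((pf (pp G)).obj (gmP (qf (pp G)))).obj (op T) ≃+ (gmP (qf (FibCat.selfOver (Over S)).p)).obj (op T) where
  toFun s := (show GS (pp G) (gmP (qf (pp G))) T from s).1 (tau Scheme.fppfPrecoverage G T) (𝟙 T)
  invFun x := ofUnit G (show U T from x)
  left_inv s := eq_ofUnit G s
  right_inv x := res_id (show U T from x)
  map_add' _ _ := rfl

/-- The comparison. -/
noncomputable def gsIso [IsFinite G.hom] [Flat G.hom] [LocallyOfFinitePresentation G.hom] :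
    (pf (pp G)).obj (gmP (qf (pp G))) ≅ gmP (qf (FibCat.selfOver (Over S)).p) :=
  mkIso (gsEquiv G) (by
    intro T T' f x
    have h1 := (show GS (pp G) (gmP (qf (pp G))) T from x).2 (tmap f) (𝟙 T)
    refine Eq.trans ?_ h1.symm
    change (show GS (pp G) (gmP (qf (pp G))) T from x).1 (tau _ G T') (𝟙 _ ≫ f) = _
    rw [Category.id_comp]
    change _ = (show GS (pp G) (gmP (qf (pp G))) T from x).1 (tau _ G T') (f ≫ 𝟙 _)
    rw [Category.comp_id])

end Glob

section Fin

variable (S) (M : Type) [AddCommGroup M] [Finite M]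

theorem finite_DS : IsFinite (Red.DS S M).hom := by
  have hfin : Module.Finite (ULift.{u} ℤ) (MonoidAlgebra (ULift.{u} ℤ) (Multiplicative M)) :=
    Module.Finite.of_basis (MonoidAlgebra.basis (Multiplicative M) (ULift.{u} ℤ))
  have h1 : IsFinite (Red.diag (ULift.{u} ℤ) M).hom := by
    change IsFinite (Spec.map (CommRingCat.ofHom (algebraMap (ULift.{u} ℤ)
      (MonoidAlgebra (ULift.{u} ℤ) (Multiplicative M)))))
    rw [IsFinite.SpecMap_iff]
    exact RingHom.finite_algebraMap.2 hfin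
  exact MorphismProperty.pullback_snd (P := @IsFinite) _ _ h1

theorem flat_DS : Flat (Red.DS S M).hom := by
  have hfree : Module.Free (ULift.{u} ℤ) (MonoidAlgebra (ULift.{u} ℤ) (Multiplicative M)) :=
    Module.Free.of_basis (MonoidAlgebra.basis (Multiplicative M) (ULift.{u} ℤ))
  have h1 : Flat (Red.diag (ULift.{u} ℤ) M).hom := by
    change Flat (Spec.map (CommRingCat.ofHom (algebraMap (ULift.{u} ℤ)
      (MonoidAlgebra (ULift.{u} ℤ) (Multiplicative M)))))
    rw [HasRingHomProperty.Spec_iff (P := @Flat)]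
    simp only [CommRingCat.hom_ofHom, RingHom.flat_algebraMap_iff]
    infer_instance
  exact MorphismProperty.pullback_snd (P := @Flat) _ _ h1

theorem lfp_DS : LocallyOfFinitePresentation (Red.DS S M).hom := by
  have hfin : Module.Finite (ULift.{u} ℤ) (MonoidAlgebra (ULift.{u} ℤ) (Multiplicative M)) :=
    Module.Finite.of_basis (MonoidAlgebra.basis (Multiplicative M) (ULift.{u} ℤ))
  have hfree : Module.Free (ULift.{u} ℤ) (MonoidAlgebra (ULift.{u} ℤ) (Multiplicative M)) :=
    Module.Free.of_basis (MonoidAlgebra.basis (Multiplicative M) (ULift.{u} ℤ))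
  have h1 : LocallyOfFinitePresentation (Red.diag (ULift.{u} ℤ) M).hom := by
    change LocallyOfFinitePresentation (Spec.map (CommRingCat.ofHom (algebraMap (ULift.{u} ℤ)
      (MonoidAlgebra (ULift.{u} ℤ) (Multiplicative M)))))
    rw [HasRingHomProperty.Spec_iff (P := @LocallyOfFinitePresentation)]
    have h1 : Module.FinitePresentation (ULift.{u} ℤ) (MonoidAlgebra (ULift.{u} ℤ) (Multiplicative M)) :=
      Module.finitePresentation_of_projective (ULift.{u} ℤ) _
    have h2 : Algebra.FinitePresentation (ULift.{u} ℤ) (MonoidAlgebra (ULift.{u} ℤ) (Multiplicative M)) := inferInstance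
    rw [CommRingCat.hom_ofHom, RingHom.finitePresentation_algebraMap]
    exact h2
  exact MorphismProperty.pullback_snd (P := @LocallyOfFinitePresentation) _ _ h1

end Fin

section Push

variable (G : Over S) [GrpObj G] [IsCommMonObj G] [IsFinite G.hom] [Flat G.hom] [LocallyOfFinitePresentation G.hom]
  [StCoh.BaseCont fp (AlgSt.BG fp G)]
  [StCoh.BaseCont fp (FibCat.selfOver (Over S))]
  [StCoh.MorCont fp (FibCat.toSelf (AlgSt.BG fp G))]
  [StCoh.MorCocont fp (FibCat.toSelf (AlgSt.BG fp G))]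

/-- good -/
theorem good : Good fp (isFG_quot G (AlgSt.trivAction G)) := good_fppf _

/-- The push-forward of `G_m`, presheaves. -/
noncomputable def pushPre : ((pu (K := fp) (AlgSt.BG fp G)).obj ((RR (good G)).obj
    (gmF (isFG_qf (isFG_quot G (AlgSt.trivAction G)))))).obj ≅ (StCoh.Gm fp (FibCat.selfOver (Over S))).obj :=
  puIso (good G) (gmF (isFG_qf (isFG_quot G (AlgSt.trivAction G)))) ≪≫ gsIso G ≪≫ gmIso fp

/-- The push-forward of `G_m`. -/
theorem push_gm : Nonempty ((StCoh.push fp (FibCat.toSelf (AlgSt.BG fp G))).obj (StCoh.Gm fp (AlgSt.BG fp G)) ≅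
    StCoh.Gm fp (FibCat.selfOver (Over S))) := by
  let e : (pu (K := fp) (AlgSt.BG fp G)).obj ((RR (good G)).obj (gmF (isFG_qf (isFG_quot G (AlgSt.trivAction G))))) ≅
      StCoh.Gm fp (FibCat.selfOver (Over S)) :=
    (fullyFaithfulSheafToPresheaf _ _).preimageIso (pushPre G)
  exact ⟨((pu (K := fp) (AlgSt.BG fp G)).mapIso (gmRR (good G))).symm ≪≫ e⟩

end Push

section RTwo

variable {n : ℕ}

/-- all points -/
def allPts (S : Scheme.{u}) : Pts S where
  Cd _ _ := True
  pull _ _ _ := trivial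

theorem lco_two (hn0 : n ≠ 0) (hn : IsUnit (n : Γ(S, ⊤))) :
    LCo (pp (Red.DS S (ZMod n))) (xx (Red.DS S (ZMod n))) 1 (allPts S) (gmP (qf (pp (Red.DS S (ZMod n))))) 1 := by
  intro T c hc hz τ _
  have hnT : IsUnit (n : Γ(T.left, ⊤)) := by
    have := hn.map T.hom.appTop.hom
    rwa [map_natCast] at this
  obtain ⟨T', f, h1, h2, E, hE, hdE⟩ := HTwo.exists_cob hn0 hnT (toF c) (isFam_toF hc) ((isZ_iff hc).1 hz) τ
  have hrc : IsC (resC f c) := hc.res f
  refine ⟨T', f, h1, h2, ofF E, isC_ofF hE, ?_⟩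
  have h3 : smC (p := pp (Red.DS S (ZMod n))) (x₀ := xx (Red.DS S (ZMod n)))
      (P := gmP (qf (pp (Red.DS S (ZMod n))))) 1 (resC f c) = resC f c := by
    funext W t v
    exact one_smul _ _
  rw [h3, isB_iff (isC_ofF hE) hrc, toF_ofF]
  exact hdE

theorem rTwo (hn0 : n ≠ 0) (hn : IsUnit (n : Γ(S, ⊤)))
    [StCoh.BaseCont fp (AlgSt.BG fp (Red.DS S (ZMod n)))]
    [StCoh.BaseCont fp (FibCat.selfOver (Over S))]
    [StCoh.MorCont fp (FibCat.toSelf (AlgSt.BG fp (Red.DS S (ZMod n))))]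
    [StCoh.MorCocont fp (FibCat.toSelf (AlgSt.BG fp (Red.DS S (ZMod n))))] :
    IsZero ((StCoh.Rpush fp (FibCat.toSelf (AlgSt.BG fp (Red.DS S (ZMod n)))) 2).obj
      (StCoh.Gm fp (AlgSt.BG fp (Red.DS S (ZMod n))))) := by
  have : NeZero n := ⟨hn0⟩
  have i1 := finite_DS S (ZMod n)
  have i2 := flat_DS S (ZMod n)
  have i3 := lfp_DS S (ZMod n)
  have hX : IsFinite (𝟙_ (Over S)).hom := inferInstanceAs (IsFinite (𝟙 _))
  have h := isZero_two (good (Red.DS S (ZMod n))) (cov_quot (Red.DS S (ZMod n)) (AlgSt.trivAction (Red.DS S (ZMod n))))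
    (gmF (isFG_qf (isFG_quot (Red.DS S (ZMod n)) (AlgSt.trivAction (Red.DS S (ZMod n)))))) (pca_gm _)
    (D := allPts S) (fun _ _ => trivial) (lco_two hn0 hn)
  exact IsZero.of_iso h (((pu (K := fp) (AlgSt.BG fp (Red.DS S (ZMod n)))).rightDerived 2).mapIso
    (gmRR (good (Red.DS S (ZMod n))))).symm

end RTwo

section ROne

theorem J_self : StCoh.J fp (FibCat.selfOver (Over S)) = QuotSh.J fp S := by
  have h0 : IsFG (FibCat.selfOver (Over S)).p := isFG_id
  rw [J_eq _ h0]
  ext T R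
  rw [mem_topo_iff]
  have h1 : R.functorPushforward (FibCat.selfOver (Over S)).p = R := Sieve.functorPushforward_id R
  rw [h1]
  rfl

theorem const_gen {C : Type u₁} [Category.{v₁} C] {J₁ J₂ : GrothendieckTopology C} (h : J₁ = J₂) {p : C ⥤ C}
    (hp : p = 𝟭 C) [HasSheafify J₁ AddCommGrpCat.{w}] [HasSheafify J₂ AddCommGrpCat.{w}] [p.IsContinuous J₁ J₂]
    (F : Sheaf J₂ AddCommGrpCat.{w}) (A : AddCommGrpCat.{w})
    (e : (constantSheaf J₂ AddCommGrpCat.{w}).obj A ≅ F) :
    Nonempty ((constantSheaf J₁ AddCommGrpCat.{w}).obj A ≅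
      (p.sheafPushforwardContinuous AddCommGrpCat.{w} J₁ J₂).obj F) := by
  subst h
  subst hp
  exact ⟨e ≪≫ (fullyFaithfulSheafToPresheaf _ _).preimageIso (Functor.leftUnitor F.obj).symm⟩

variable (M : Type) [AddCommGroup M] [StCoh.BaseCont fp (FibCat.selfOver (Over S))]

/-- The dual sheaf of `D_S(M)` is constant. -/
theorem constIso : Nonempty (StCoh.const fp (FibCat.selfOver (Over S)) M ≅
    (StCoh.ofBase fp (FibCat.selfOver (Over S)) AddCommGrpCat.{u + 1}).obj
      (CGrpSh2.dualSh fp (CGrpSh.pts fp (Red.DS S M)))) :=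
  const_gen (C := Over S) (J₁ := StCoh.J fp (FibCat.selfOver (Over S))) (J₂ := QuotSh.J fp S) J_self
    (p := (FibCat.selfOver (Over S)).p) rfl (CGrpSh2.dualSh fp (CGrpSh.pts fp (Red.DS S M))) _
    (K810.DualDS.dsDualIso S M)

theorem rOneDS [Finite M] [StCoh.BaseCont fp (AlgSt.BG fp (Red.DS S M))]
    [StCoh.MorCont fp (FibCat.toSelf (AlgSt.BG fp (Red.DS S M)))]
    [StCoh.MorCocont fp (FibCat.toSelf (AlgSt.BG fp (Red.DS S M)))] :
    Nonempty ((StCoh.Rpush fp (FibCat.toSelf (AlgSt.BG fp (Red.DS S M))) 1).obj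
      (StCoh.Gm fp (AlgSt.BG fp (Red.DS S M))) ≅ StCoh.const fp (FibCat.selfOver (Over S)) M) := by
  have i1 := finite_DS S M
  have i2 := flat_DS S M
  have i3 := lfp_DS S M
  obtain ⟨e⟩ := rOne fp (Red.DS S M) (good (Red.DS S M))
  obtain ⟨e'⟩ := constIso (S := S) M
  exact ⟨e ≪≫ e'.symm⟩

end ROne

end K539.Mu
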